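import Cfsg.Agent.Lib.Extra.SuzUnique.Short.Five.TabF0
import Cfsg.Agent.Lib.Extra.SuzUnique.Short.Five.TabC0
import Cfsg.Agent.Lib.Extra.SuzUnique.Short.Five.TabC1
import Cfsg.Agent.Lib.Extra.SuzUnique.Short.Five.TabC2
import Cfsg.Agent.Lib.Extra.SuzUnique.Short.Five.TabC3
import Cfsg.Agent.Lib.Extra.SuzUnique.Short.Five.TabP0
import Cfsg.Agent.Lib.Extra.SuzUnique.Short.Five.TabZ0

/-! Generated certificate. -/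

set_option autoImplicit false
set_option maxRecDepth 20000

namespace Cfsg.Lib.Extra.SuzUnique.ShortFive

open Cfsg.Lib.CosetEnum

/-- Table. -/
def tabF : Tab :=
  tabF_0

/-- Table. -/
def tabC : Tab :=
  (.node 8192 (.node 4096 tabC_0 tabC_1) (.node 4096 tabC_2 tabC_3))

/-- Table. -/
def tabP : Tab :=
  tabP_0

/-- Table. -/
def tabZ : Tab :=
  tabZ_0

/-- The relator rotations in use. -/
def relWords : List (List Nat) :=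
  [[4, 0, 4, 0],
    [4, 1, 4, 1],
    [4, 2, 4, 2],
    [3, 0, 3, 0],
    [3, 1, 3, 1],
    [3, 4, 3, 4, 3, 4],
    [2, 0, 2, 0],
    [2, 4, 2, 4],
    [1, 2, 1, 2, 1, 2],
    [1, 4, 1, 4],
    [3, 2, 3, 2, 3, 2, 3, 0, 2],
    [0, 2, 0, 2],
    [0, 4, 0, 4],
    [4, 3, 4, 3, 4, 3],
    [2, 1, 2, 1, 2, 1],
    [0, 1, 0, 1, 0, 1, 0, 1, 0, 1],
    [1, 0, 1, 0, 1, 0, 1, 0, 1, 0],
    [2, 3, 2, 3, 2, 3, 2, 3, 0],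
    [1, 3, 1, 3],
    [3, 2, 3, 2, 3, 2, 3, 2, 3, 2, 3, 2, 3, 2, 3, 2],
    [0, 3, 0, 3],
    [2, 3, 2, 3, 2, 3, 2, 3, 2, 3, 2, 3, 2, 3, 2, 3],
    [3, 2, 3, 2, 3, 0, 2, 3, 2],
    [2, 3, 2, 3, 0, 2, 3, 2, 3],
    [2, 3, 2, 3, 2, 3, 0, 2, 3],
    [2, 3, 0, 2, 3, 2, 3, 2, 3],
    [0, 2, 3, 2, 3, 2, 3, 2, 3],
    [2, 0, 3, 2, 3, 2, 3, 2, 3],
    [3, 2, 3, 2, 3, 2, 3, 2, 0],
    [3, 0, 2, 3, 2, 3, 2, 3, 2],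
    [2, 3, 2, 3, 2, 3, 2, 0, 3],
    [0, 3, 2, 3, 2, 3, 2, 3, 2],
    [1, 1],
    [4, 4],
    [3, 3],
    [2, 2],
    [0, 0],
    [3, 2, 3, 2, 3, 2, 0, 3, 2],
    [3, 2, 0, 3, 2, 3, 2, 3, 2],
    [3, 2, 3, 2, 0, 3, 2, 3, 2]]

/-- Subgroup words. -/
def subWords : List (List Nat) :=
  [[0],
    [1],
    [2],
    [3]]

end Cfsg.Lib.Extra.SuzUnique.ShortFive
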